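import Groth.Agent.Lib.Ample18.Avoid
import Mathlib.Algebra.Module.Submodule.Union

/-!
A section generating at finitely many points, over an infinite field of scalars.
-/

set_option autoImplicit false

universe u

open CategoryTheory AlgebraicGeometry TopologicalSpace

namespace Groth.Agent.InvTriv15

variable {X : Scheme.{u}}

theorem exists_gen_at_finite {M : X.Modules} (hM : PicF.IsInvertible M) {k : Type u} [Field k] [Infinite k]
    (γ : k →+* Γ(X, ⊤)) {ι : Type*} [Finite ι] (y : ι → X)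
    (h : ∀ j, ∃ t : Γ(M, ⊤), Amp.Gen (Amp.gm M (y j) (U := ⊤) trivial t)) :
    ∃ t : Γ(M, ⊤), ∀ j, Amp.Gen (Amp.gm M (y j) (U := ⊤) trivial t) := by
  letI : Module k Γ(M, ⊤) := Module.compHom _ γ
  choose g hg using fun j => Amp.exists_stalk_gen hM (y j)
  let W : ι → Submodule k Γ(M, ⊤) := fun j =>
    { carrier := {t | ¬ Amp.Gen (Amp.gm M (y j) (U := ⊤) trivial t)}
      zero_mem' := fun h0 => Amp.not_gen_zero hM (y j)
        ((show Amp.gm M (y j) (U := ⊤) trivial (0 : Γ(M, ⊤)) = 0 from map_zero _) ▸ h0)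
      add_mem' := fun {s t} hs ht => by
        obtain ⟨α, hα⟩ := (hg j).2 (Amp.gm M (y j) (U := ⊤) trivial s)
        obtain ⟨β, hβ⟩ := (hg j).2 (Amp.gm M (y j) (U := ⊤) trivial t)
        show ¬ Amp.Gen _
        rw [show Amp.gm M (y j) (U := ⊤) trivial (s + t) =
          Amp.gm M (y j) (U := ⊤) trivial s + Amp.gm M (y j) (U := ⊤) trivial t from map_add _ _ _,
          ← hα, ← hβ, ← add_smul, (hg j).ne_zero_smul]
        exact IsLocalRing.nonunits_add (fun h => hs (hα ▸ ((hg j).ne_zero_smul α).mpr h))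
          (fun h => ht (hβ ▸ ((hg j).ne_zero_smul β).mpr h))
      smul_mem' := fun a t ht => by
        obtain ⟨α, hα⟩ := (hg j).2 (Amp.gm M (y j) (U := ⊤) trivial t)
        show ¬ Amp.Gen _
        rw [show a • t = γ a • t from rfl, Amp.gm_smul, ← hα, smul_smul, (hg j).ne_zero_smul]
        exact fun h => ht (hα ▸ ((hg j).ne_zero_smul α).mpr (isUnit_of_mul_isUnit_right h)) }
  obtain ⟨t, ht⟩ := Submodule.exists_forall_notMem_of_forall_ne_top W fun j hj => by
    obtain ⟨t, ht⟩ := h j
    exact (show t ∈ W j from hj ▸ trivial) ht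
  exact ⟨t, fun j => not_not.mp (ht j)⟩

end Groth.Agent.InvTriv15
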