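import Groth.Agent.Lib.ThetaGrp19.Scalar
import Groth.Prelude.Def_Coh
import Mathlib.AlgebraicGeometry.Properties
import Mathlib.AlgebraicGeometry.FunctionField

/-!
# An invertible module with a nonzero section and a nonzero cosection is trivial
-/

set_option autoImplicit false
set_option backward.isDefEq.respectTransparency false
universe u

open CategoryTheory CategoryTheory.Limits AlgebraicGeometry Opposite TopologicalSpace

namespace Groth.Agent.InvTriv15

open Groth.Agent.M1 Groth.Agent.Twist Groth.Agent.ThetaGrp19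

variable {X : Scheme.{u}} {L : X.Modules}

/-- The section given by a morphism out of the structure sheaf. -/
noncomputable def sec (s : Coh.structureModule X ⟶ L) : Γ(L, ⊤) := s.app ⊤ (1 : Γ(X, ⊤))

theorem hom_app_eq_smul (s : Coh.structureModule X ⟶ L) (V : X.Opens) (r : Γ(X, V)) :
    s.app V r = r • mres L (le_top : V ≤ ⊤) (sec s) := by
  delta sec
  have h1 : s.app V (1 : Γ(X, V)) = mres L (le_top : V ≤ ⊤) (s.app ⊤ (1 : Γ(X, ⊤))) := by
    refine Eq.trans ?_ (app_mres s (le_top : V ≤ ⊤) (1 : Γ(X, ⊤)))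
    exact congrArg (s.app V) (map_one (X.presheaf.map (homOfLE (le_top : V ≤ ⊤)).op).hom).symm
  rw [← h1]
  refine Eq.trans ?_ (s.app_smul r (1 : Γ(X, V)))
  exact congrArg (s.app V) (mul_one r).symm

variable [IsIntegral X]

/-- A nonzero section and a nonzero cosection compose to a nonzero function. -/
theorem app_ne_zero (hL : PicF.IsInvertible L) (s : Coh.structureModule X ⟶ L) (hs : s ≠ 0)
    (t : L ⟶ Coh.structureModule X) (ht : t ≠ 0) :
    t.app ⊤ (sec s) ≠ (0 : Γ(X, ⊤)) := by
  intro ha
  obtain ⟨U, g, hU, hg⟩ := exists_gens hL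
  choose α hα using fun x => (hg x _ le_rfl).2 (mres L (le_top : U x ≤ ⊤) (sec s))
  simp only [mres_id] at hα
  haveI : ∀ x, Nonempty (U x) := fun x => ⟨⟨x, hU x⟩⟩
  refine ht (hom_ext_gens hU hg fun x => ?_)
  change (t.app (U x) (g x) : Γ(X, U x)) = 0
  by_contra hb
  have hprod : α x * (show Γ(X, U x) from t.app (U x) (g x)) = 0 := by
    refine Eq.trans ((t.app_smul (α x) (g x)).symm) ?_
    rw [hα, app_mres t, ha]
    exact map_zero _
  have hαx : α x = 0 := (mul_eq_zero.1 hprod).resolve_right hb
  have hσ : mres L (le_top : U x ≤ ⊤) (sec s) = 0 := by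
    rw [← hα x, hαx, zero_smul]
  refine hs (Scheme.Modules.hom_ext _ _ fun V => ?_)
  ext r
  rw [hom_app_eq_smul]
  have h0 : sec s = 0 := by
    refine modules_eq_of_locally_eq L ⊤ U (fun y => le_top)
      (fun z _ => Opens.mem_iSup.2 ⟨z, hU z⟩) _ _ fun y => ?_
    rw [map_zero]
    obtain ⟨w, hwx, hwy⟩ := nonempty_preirreducible_inter (U x).2 (U y).2 ⟨x, hU x⟩ ⟨y, hU y⟩
    haveI : Nonempty (U x ⊓ U y : X.Opens) := ⟨⟨w, hwx, hwy⟩⟩
    have h2 : ores (inf_le_right : U x ⊓ U y ≤ U y) (α y) = 0 := by
      refine (hg y (U x ⊓ U y) inf_le_right).1 ?_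
      change ores _ (α y) • mres L _ (g y) = (0 : Γ(X, U x ⊓ U y)) • mres L _ (g y)
      refine Eq.trans ?_ (zero_smul _ _).symm
      rw [← mres_smul, hα y, mres_mres]
      refine Eq.trans ?_ ((congrArg (mres L (inf_le_left : U x ⊓ U y ≤ U x)) hσ).trans (map_zero _))
      exact (mres_mres L _ _ _).symm
    have h3 : α y = 0 :=
      map_injective_of_isIntegral X (homOfLE (inf_le_right : U x ⊓ U y ≤ U y))
        (h2.trans (map_zero _).symm)
    rw [← hα y, h3, zero_smul]
  rw [h0, map_zero, smul_zero]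
  rfl

/-- An invertible module with a nonzero section and a nonzero cosection is trivial when the global functions
form a field. -/
theorem nonempty_iso (hf : IsField (Γ(X, ⊤) : Type u)) (hL : PicF.IsInvertible L)
    (s : Coh.structureModule X ⟶ L) (hs : s ≠ 0) (t : L ⟶ Coh.structureModule X) (ht : t ≠ 0) :
    Nonempty (L ≅ Coh.structureModule X) := by
  let a : Γ(X, ⊤) := t.app ⊤ (sec s)
  have hst : s ≫ t = smulHom (Coh.structureModule X) a := by
    refine Scheme.Modules.hom_ext _ _ fun V => ?_
    ext r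
    rw [smulHom_app]
    change (show Γ(X, V) from t.app V (s.app V r)) = ores (le_top : V ≤ ⊤) a * (show Γ(X, V) from r)
    rw [hom_app_eq_smul, t.app_smul, app_mres t]
    exact mul_comm _ _
  obtain ⟨b, hb, -⟩ := existsUnique_smulHom hL (t ≫ s)
  have hbb : smulHom L (b * b) = smulHom L (b * a) := by
    rw [← smulHom_comp, ← hb, Category.assoc, ← Category.assoc s t s, hst,
      smulHom_naturality, ← Category.assoc, hb, smulHom_comp]
  have ha : a ≠ 0 := app_ne_zero hL s hs t ht
  have hb0 : b ≠ 0 := by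
    intro h0
    have h1 : smulHom (Coh.structureModule X) (a * a) = smulHom (Coh.structureModule X) 0 := by
      have h2 : t ≫ s = 0 := by
        rw [hb, h0]
        refine Scheme.Modules.hom_ext _ _ fun V => ?_
        ext m
        rw [smulHom_app, map_zero, zero_smul]
        rfl
      rw [← smulHom_comp, ← hst, Category.assoc, ← Category.assoc t s t, h2, zero_comp, comp_zero]
      refine Scheme.Modules.hom_ext _ _ fun V => ?_
      ext m
      rw [smulHom_app, map_zero, zero_smul]
      rfl
    have h3 := congr(($h1).app ⊤ (1 : Γ(X, ⊤)))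
    simp only [smulHom_app, M1.ores_id, zero_smul] at h3
    exact ha (mul_self_eq_zero.1 ((mul_one (a * a)).symm.trans h3))
  have hab : b = a := mul_left_cancel₀ hb0 (smulHom_injective hL hbb)
  obtain ⟨c, hc⟩ := hf.mul_inv_cancel ha
  refine ⟨⟨t ≫ smulHom (Coh.structureModule X) c, s, ?_, ?_⟩⟩
  · rw [Category.assoc, smulHom_naturality, ← Category.assoc, hb, smulHom_comp, hab, hc, smulHom_one]
  · rw [← Category.assoc, hst, smulHom_comp, hc, smulHom_one]

end Groth.Agent.InvTriv15
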