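import Groth.Agent.Lib.RelAmple18.Basic
import Groth.Agent.Lib.Twist.Gen
import Groth.Agent.Lib.Twist.Triv

/-!
An invertible module is trivial on an affine open around finitely many points of an affine open.
-/

universe u

open CategoryTheory Limits AlgebraicGeometry

namespace Groth.Agent.InvTriv15

theorem exists_trivializing_affine {X : Scheme.{u}} {L : X.Modules} (hL : PicF.IsInvertible L)
    {U : X.Opens} (hU : IsAffineOpen U) {Z : Set X} (hZ : Z.Finite) (hZU : Z ⊆ U) :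
    ∃ V : X.Opens, IsAffineOpen V ∧ Z ⊆ V ∧ V ≤ U ∧
      Nonempty (L.restrict V.ι ≅ Coh.structureModule (V : Scheme.{u})) := by
  haveI : IsAffine (U : Scheme.{u}) := hU
  have hL' : PicF.IsInvertible (L.restrict U.ι) := Twist.isInvertible_restrict L U.ι fun y => hL (U.ι y)
  obtain ⟨s, hG, hTG, -⟩ := Amp.exists_affine_section_finite hL' (Z := U.ι ⁻¹' Z)
    (hZ.preimage U.ι.isOpenEmbedding.injective.injOn) (W := ⊤) (fun _ _ => trivial)
  obtain ⟨t, ht⟩ := RA.exists_sec_of_restrict hL U s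
  have hGU : U.ι ''ᵁ CohB1.genLocus (L.restrict U.ι) s ≤ U := U.ι_image_le _
  refine ⟨U.ι ''ᵁ CohB1.genLocus (L.restrict U.ι) s, hG.image_of_isOpenImmersion U.ι,
    fun x hx => ⟨⟨x, hZU hx⟩, hTG hx, rfl⟩, hGU, ?_⟩
  refine Twist.nonempty_restrict_iso L _ (M2.res L hGU t) (Twist.isGen_of_stalk fun x hx => ?_)
  obtain ⟨y, hy, hyx⟩ := hx
  have h1 := (ht y).mp hy
  subst hyx
  have hmem : U.ι y ∈ U.ι ''ᵁ CohB1.genLocus (L.restrict U.ι) s := ⟨y, hy, rfl⟩
  have h2 : Amp.gm L (U.ι y) hmem (M2.res L hGU t) = Amp.gm L y.1 y.2 t := Amp.gm_res hGU _ t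
  change Amp.Gen (Amp.gm L (U.ι y) hmem (M2.res L hGU t))
  rw [h2]
  exact h1

/-- With an ample module around, any finitely many points have such an open. -/
theorem exists_trivializing_affine_of_isAmple {X : Scheme.{u}} {L M : X.Modules} (hL : PicF.IsInvertible L)
    (hM : CohB1.IsAmple M) {Z : Set X} (hZ : Z.Finite) :
    ∃ V : X.Opens, IsAffineOpen V ∧ Z ⊆ V ∧
      Nonempty (L.restrict V.ι ≅ Coh.structureModule (V : Scheme.{u})) := by
  obtain ⟨n, G, -, hZG, -, hG⟩ := Amp.exists_affine_hasSec_finite hM hZ (U := ⊤) (fun _ _ => trivial)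
  obtain ⟨V, hV, hZV, -, h⟩ := exists_trivializing_affine hL hG hZ hZG
  exact ⟨V, hV, hZV, h⟩

end Groth.Agent.InvTriv15
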