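import Groth.Prelude.Def_Curv2
import Groth.Prelude.Def_LCI2
import Groth.Agent.Lib.Ample18.Avoid
import Groth.Agent.Lib.Twist.ProjSpace
import Groth.Agent.Lib.Twist.Pullback
import Groth.Agent.Lib.Segre.Basic
import Groth.Agent.Lib.GeomIrr18.Res
import Mathlib.Algebra.Module.Submodule.Union

/-!
A rational point of a scheme immersed in projective space is separated from finitely many other
points by a linear form, the ground field being infinite.
-/

set_option autoImplicit false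

universe u

open CategoryTheory CategoryTheory.Limits AlgebraicGeometry TopologicalSpace

namespace Groth.Agent.InvTriv15

open Groth.Agent.M1 Groth.Agent.ProjUP Groth.Agent.Segre

variable {X : Scheme.{u}}

lemma gen_smul_section {M : X.Modules} {U : X.Opens} {e : Γ(M, U)} (he : Twist.IsGen M U e)
    (a : Γ(X, U)) {x : X} (hx : x ∈ U) : Amp.Gen (Amp.gm M x hx (a • e)) ↔ x ∈ X.basicOpen a := by
  have hg : Amp.Gen (Amp.gm M x hx e) := he.stalk hx
  rw [Amp.gm_smul, hg.ne_zero_smul]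
  exact (Scheme.mem_basicOpen X a x hx).symm

lemma appLE_eq_zero_of_notMem {K : Type u} [Field K] (a : Spec (CommRingCat.of K) ⟶ X) {U : X.Opens}
    (hU : ⊤ ≤ a ⁻¹ᵁ U) (s : Γ(X, U)) (h : ∀ p, a p ∉ X.basicOpen s) : a.appLE U ⊤ hU s = 0 := by
  rw [← AlgebraicGeometry.basicOpen_eq_bot_iff (X := Spec (CommRingCat.of K))]
  refine eq_bot_iff.mpr fun p hp => (h p ?_).elim
  simp only [Scheme.Hom.appLE, ConcreteCategory.comp_apply] at hp
  erw [Scheme.basicOpen_res] at hp
  rw [← Scheme.preimage_basicOpen] at hp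
  exact hp.2

lemma appLE_ores_appTop {T S : Scheme.{u}} (a : T ⟶ X) (f : X ⟶ S) {U : X.Opens} (hU : ⊤ ≤ a ⁻¹ᵁ U)
    (z : Γ(S, ⊤)) : a.appLE U ⊤ hU (ores (le_top : U ≤ ⊤) (f.appTop z)) = (a ≫ f).appTop z := by
  rw [← ConcreteCategory.comp_apply, Scheme.Hom.map_appLE, Scheme.Hom.comp_appTop,
    ConcreteCategory.comp_apply]
  exact ConcreteCategory.congr_hom (Scheme.Hom.appLE_eq_app a) _

section sep

variable (k : Type u) [Field k] [X.Over (Spec (CommRingCat.of k))] {d : ℕ}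

/-- Points with the same coordinates over the ground field are equal. -/
theorem eq_of_same_coords {R : Type u} [CommRing R] {P : Scheme.{u}}
    (i : X ⟶ P) (hi : Function.Injective i)
    (p1 : P ⟶ Proj (CohB1.polyGrading d R)) (p2 : P ⟶ Spec (CommRingCat.of k))
    (hP : ∀ {T : Scheme.{u}} (a b : T ⟶ P), a ≫ p1 = b ≫ p1 → a ≫ p2 = b ≫ p2 → a = b)
    (hterm : ∀ {T : Scheme.{u}} (a b : T ⟶ Proj (CohB1.polyGrading d R)),
      a ≫ toBase (CohB1.polyGrading d R) = b ≫ toBase (CohB1.polyGrading d R))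
    (hf : i ≫ p2 = X ↘ Spec (CommRingCat.of k))
    {x y : X} (hx : Function.Surjective (Curv2.resMap k X x))
    (l₀ : Fin (d + 1)) (U : X.Opens)
    (hU : U ≤ (i ≫ p1) ⁻¹ᵁ Proj.basicOpen (CohB1.polyGrading d R) (MvPolynomial.X l₀))
    (hxU : x ∈ U) (hyU : y ∈ U) (c : Fin (d + 1) → k)
    (hcx : ∀ l, x ∉ X.basicOpen (co R (i ≫ p1) l₀ U hU l -
      ores (le_top : U ≤ ⊤) (Coh.toGlobal (X ↘ Spec (CommRingCat.of k)) (c l))))
    (hcy : ∀ l, y ∉ X.basicOpen (co R (i ≫ p1) l₀ U hU l -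
      ores (le_top : U ≤ ⊤) (Coh.toGlobal (X ↘ Spec (CommRingCat.of k)) (c l)))) : y = x := by
  let e : k ≃+* X.residueField x := RingEquiv.ofBijective (Curv2.resMap k X x) ⟨(Curv2.resMap k X x).injective, hx⟩
  let h : Spec (X.residueField y) ⟶ Spec (X.residueField x) :=
    Spec.map (CommRingCat.ofHom ((Curv2.resMap k X y).comp e.symm.toRingHom))
  let a : Spec (X.residueField y) ⟶ X := X.fromSpecResidueField y
  let b : Spec (X.residueField y) ⟶ X := h ≫ X.fromSpecResidueField x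
  have hab : a ≫ (X ↘ Spec (CommRingCat.of k)) = b ≫ (X ↘ Spec (CommRingCat.of k)) := by
    simp only [a, b, h, Category.assoc, ← GeomIrr.spec_resMap, ← Spec.map_comp]
    congr 1
    exact CommRingCat.hom_ext (RingHom.ext fun z =>
      (congrArg (Curv2.resMap k X y) (e.symm_apply_apply z)).symm)
  have ha : ∀ p, a p = y := fun p => Scheme.fromSpecResidueField_apply y p
  have hb : ∀ p, b p = x := fun p => Scheme.fromSpecResidueField_apply x (h p)
  have haU : ⊤ ≤ a ⁻¹ᵁ U := fun p _ => show a p ∈ U from (ha p).symm ▸ hyU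
  have hbU : ⊤ ≤ b ⁻¹ᵁ U := fun p _ => show b p ∈ U from (hb p).symm ▸ hxU
  have key : a ≫ i ≫ p1 = b ≫ i ≫ p1 := by
    refine ext_of_co R (hterm _ _) fun p => ⟨l₀, ⊤, haU.trans (a.preimage_mono hU),
      hbU.trans (b.preimage_mono hU), trivial, fun l => ?_⟩
    have e1 := appLE_eq_zero_of_notMem (K := X.residueField y) a haU _
      (fun p => (ha p).symm ▸ hcy l)
    have e2 := appLE_eq_zero_of_notMem (K := X.residueField y) b hbU _
      (fun p => (hb p).symm ▸ hcx l)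
    rw [map_sub, sub_eq_zero] at e1 e2
    refine ((ev_comp _ _ a (i ≫ p1) hU haU _).symm.trans ?_).trans (ev_comp _ _ b (i ≫ p1) hU hbU _)
    refine e1.trans (Eq.trans ?_ e2.symm)
    refine (appLE_ores_appTop a _ haU _).trans (Eq.trans ?_ (appLE_ores_appTop b _ hbU _).symm)
    rw [hab]
  have key2 : a ≫ i = b ≫ i := hP _ _ (by simpa only [Category.assoc] using key)
    (by simpa only [Category.assoc, hf] using hab)
  have := congrArg (fun φ : Spec (X.residueField y) ⟶ P => φ (IsLocalRing.closedPoint _)) key2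
  simp only [Scheme.Hom.comp_apply, ha, hb] at this
  exact hi this

end sep

theorem exists_section_sep (k : Type u) [Field k] [Infinite k] [X.Over (Spec (CommRingCat.of k))] {d : ℕ}
    {R : Type u} [CommRing R] {P : Scheme.{u}}
    (i : X ⟶ P) (hi : Function.Injective i)
    (p1 : P ⟶ Proj (CohB1.polyGrading d R)) (p2 : P ⟶ Spec (CommRingCat.of k))
    (hP : ∀ {T : Scheme.{u}} (a b : T ⟶ P), a ≫ p1 = b ≫ p1 → a ≫ p2 = b ≫ p2 → a = b)
    (hterm : ∀ {T : Scheme.{u}} (a b : T ⟶ Proj (CohB1.polyGrading d R)),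
      a ≫ toBase (CohB1.polyGrading d R) = b ≫ toBase (CohB1.polyGrading d R))
    (hf : i ≫ p2 = X ↘ Spec (CommRingCat.of k))
    (x : X) (hx : Function.Surjective (Curv2.resMap k X x)) {n : ℕ} (pts : Fin n → X) (hne : ∀ j, pts j ≠ x) :
    ∃ t : Γ((Scheme.Modules.pullback (i ≫ p1)).obj (_root_.Twist.twist (CohB1.polyGrading d R) 1), ⊤),
      ¬ Amp.Gen (Amp.gm _ x (U := ⊤) trivial t) ∧ ∀ j, Amp.Gen (Amp.gm _ (pts j) (U := ⊤) trivial t) := by
  classical
  let 𝒜 := CohB1.polyGrading d R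
  let r := i ≫ p1
  let M : X.Modules := (Scheme.Modules.pullback r).obj (_root_.Twist.twist 𝒜 1)
  have hM : PicF.IsInvertible M := Twist.isInvertible_pullback r (Twist.isInvertible_twistProjSpace d R 1)
  let γ : k →+* Γ(X, ⊤) := Coh.toGlobal (X ↘ Spec (CommRingCat.of k))
  let D : Fin (d + 1) → X.Opens := fun l => r ⁻¹ᵁ Proj.basicOpen 𝒜 (MvPolynomial.X l)
  have hcov : ∀ z : X, ∃ l, z ∈ D l := fun z => by
    have hz : r z ∈ ⨆ l : Fin (d + 1), Proj.basicOpen 𝒜 (MvPolynomial.X l) :=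
      (ProjSpace.iSup_basicOpen d R).ge trivial
    obtain ⟨l, hl⟩ := Opens.mem_iSup.mp hz
    exact ⟨l, hl⟩
  obtain ⟨l₀, hxD⟩ := hcov x
  let ev0 : Fin (d + 1) → Γ(X, D l₀) := fun l => co R r l₀ (D l₀) le_rfl l
  choose c hc using fun l => hx (X.residue x (X.presheaf.germ (D l₀) x hxD (ev0 l)))
  have hcx : ∀ l, x ∉ X.basicOpen (ev0 l - ores (le_top : D l₀ ≤ ⊤) (γ (c l))) := fun l hmem => by
    rw [Scheme.mem_basicOpen X _ x hxD] at hmem
    refine (hmem.map (X.residue x).hom).ne_zero ?_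
    rw [map_sub, map_sub, sub_eq_zero, ← hc l, TopCat.Presheaf.germ_res_apply]
    rfl
  let sv : Fin (d + 1) → Γ(M, ⊤) := fun l => sec 𝒜 r (xMem R d l)
  let t : Fin (d + 1) → Γ(M, ⊤) := fun l => sv l - γ (c l) • sv l₀
  let s : (Fin (d + 1) → k) → Γ(M, ⊤) := fun μ => ∑ l, γ (μ l) • t l
  have tD : ∀ l, mres M (le_top : D l₀ ≤ ⊤) (t l) =
      (ev0 l - ores (le_top : D l₀ ≤ ⊤) (γ (c l))) • mres M (le_top : D l₀ ≤ ⊤) (sv l₀) := fun l => by
    rw [sub_smul]
    change mres M (le_top : D l₀ ≤ ⊤) (sv l - γ (c l) • sv l₀) = _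
    rw [map_sub, mres_smul]
    congr 1
    exact sec_eq_ev_smul 𝒜 r (xMem R d l₀) (xMem R d l) (D l₀) le_rfl
  have gx : ∀ μ, ¬ Amp.Gen (Amp.gm M x (U := ⊤) trivial (s μ)) := fun μ => by
    rw [← Amp.gm_res (le_top : D l₀ ≤ ⊤) hxD]
    have : M2.res M (le_top : D l₀ ≤ ⊤) (s μ) =
        (∑ l, ores (le_top : D l₀ ≤ ⊤) (γ (μ l)) * (ev0 l - ores (le_top : D l₀ ≤ ⊤) (γ (c l)))) •
          mres M (le_top : D l₀ ≤ ⊤) (sv l₀) := by
      change mres M (le_top : D l₀ ≤ ⊤) (∑ l, γ (μ l) • t l) = _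
      rw [map_sum, Finset.sum_smul]
      refine Finset.sum_congr rfl fun l _ => ?_
      rw [mres_smul, mul_smul, ← tD]
    rw [this, gen_smul_section (isGen_sec_of_le 𝒜 r (xMem R d l₀) le_rfl) _ hxD, Scheme.mem_basicOpen X _ x hxD,
      map_sum, ← mem_nonunits_iff]
    exact (IsLocalRing.maximalIdeal _).sum_mem fun l _ => by
      rw [map_mul]
      exact Ideal.mul_mem_left _ _ ((Scheme.mem_basicOpen X _ x hxD).not.mp (hcx l))
  have gy : ∀ y, y ≠ x → ∃ l, Amp.Gen (Amp.gm M y (U := ⊤) trivial (t l)) := fun y hy => by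
    by_contra hno
    push Not at hno
    have hyD : y ∈ D l₀ := by
      obtain ⟨m, hm⟩ := hcov y
      have gm0 : Amp.Gen (Amp.gm M y (U := ⊤) trivial (sv m)) := by
        rw [← Amp.gm_res (le_top : D m ≤ ⊤) hm]
        exact (isGen_sec_of_le 𝒜 r (xMem R d m) le_rfl).stalk hm
      by_contra hyD
      have h0 : ¬ Amp.Gen (Amp.gm M y (U := ⊤) trivial (sv l₀)) := fun hg => hyD <| by
        have hb : sv l₀ = sec 𝒜 r (xMem R d l₀) := rfl
        rw [← Amp.gm_res (le_top : D m ≤ ⊤) hm, hb,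
          show M2.res M (le_top : D m ≤ ⊤) (sec 𝒜 r (xMem R d l₀)) = _ from
            sec_eq_ev_smul 𝒜 r (xMem R d m) (xMem R d l₀) (D m) le_rfl,
          gen_smul_section (isGen_sec_of_le 𝒜 r (xMem R d m) le_rfl) _ hm,
          basicOpen_ev 𝒜 (xMem R d m) r (D m) le_rfl (xMem R d l₀)] at hg
        exact hg.2
      obtain ⟨α, hα⟩ := gm0.2 (Amp.gm M y (U := ⊤) trivial (sv l₀))
      apply hno m
      change Amp.Gen (M.presheaf.germ ⊤ y trivial (sv m - γ (c m) • sv l₀))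
      rw [map_sub]
      have hαu : ¬ IsUnit α := fun h => h0 (hα ▸ (gm0.ne_zero_smul α).mpr h)
      change Amp.Gen (Amp.gm M y (U := ⊤) trivial (sv m) - Amp.gm M y (U := ⊤) trivial (γ (c m) • sv l₀))
      rw [Amp.gm_smul, ← hα, smul_smul]
      nth_rewrite 1 [← one_smul (X.presheaf.stalk y) (Amp.gm M y (U := ⊤) trivial (sv m))]
      rw [← sub_smul, gm0.ne_zero_smul]
      refine IsLocalRing.isUnit_one_sub_self_of_mem_nonunits _ ?_
      exact fun h => hαu (isUnit_of_mul_isUnit_right h)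
    refine hy (eq_of_same_coords k i hi p1 p2 hP hterm hf hx l₀ (D l₀) le_rfl hxD hyD c hcx fun l hmem => hno l ?_)
    rw [← Amp.gm_res (le_top : D l₀ ≤ ⊤) hyD, show M2.res M (le_top : D l₀ ≤ ⊤) (t l) = _ from tD l]
    exact (gen_smul_section (isGen_sec_of_le 𝒜 r (xMem R d l₀) le_rfl) _ hyD).mpr hmem
  choose g hg using fun j => Amp.exists_stalk_gen hM (pts j)
  let W : Fin n → Submodule k (Fin (d + 1) → k) := fun j =>
    { carrier := {μ | ¬ Amp.Gen (Amp.gm M (pts j) (U := ⊤) trivial (s μ))}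
      zero_mem' := by
        show ¬ Amp.Gen _
        simp only [s, Pi.zero_apply, map_zero, zero_smul, Finset.sum_const_zero]
        try simp only [Amp.gm, map_zero]
        exact Amp.not_gen_zero hM _
      add_mem' := fun {μ ν} hμ hν => by
        have es : s (μ + ν) = s μ + s ν := by
          simp only [s, Pi.add_apply, map_add, add_smul, Finset.sum_add_distrib]
        obtain ⟨α, hα⟩ := (hg j).2 (Amp.gm M (pts j) (U := ⊤) trivial (s μ))
        obtain ⟨β, hβ⟩ := (hg j).2 (Amp.gm M (pts j) (U := ⊤) trivial (s ν))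
        show ¬ Amp.Gen _
        rw [es, show Amp.gm M (pts j) (U := ⊤) trivial (s μ + s ν) = _ from map_add _ _ _]
        change ¬ Amp.Gen (Amp.gm M (pts j) (U := ⊤) trivial (s μ) + Amp.gm M (pts j) (U := ⊤) trivial (s ν))
        rw [← hα, ← hβ, ← add_smul, (hg j).ne_zero_smul]
        exact IsLocalRing.nonunits_add (fun h => hμ (hα ▸ ((hg j).ne_zero_smul α).mpr h))
          (fun h => hν (hβ ▸ ((hg j).ne_zero_smul β).mpr h))
      smul_mem' := fun a μ hμ => by
        have es : s (a • μ) = γ a • s μ := by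
          simp only [s, Pi.smul_apply, smul_eq_mul, map_mul, mul_smul, Finset.smul_sum]
        obtain ⟨α, hα⟩ := (hg j).2 (Amp.gm M (pts j) (U := ⊤) trivial (s μ))
        show ¬ Amp.Gen _
        rw [es, Amp.gm_smul, ← hα, smul_smul, (hg j).ne_zero_smul]
        exact fun h => hμ (hα ▸ ((hg j).ne_zero_smul α).mpr (isUnit_of_mul_isUnit_right h)) }
  have hW : ∀ j, W j ≠ ⊤ := fun j hj => by
    obtain ⟨l, hl⟩ := gy (pts j) (hne j)
    have hmem : (Pi.single l (1 : k)) ∈ W j := hj ▸ trivial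
    refine hmem ?_
    have es : s (Pi.single l 1) = t l := by
      simp only [s]
      rw [Finset.sum_eq_single l (fun b _ hb => by rw [Pi.single_eq_of_ne hb, map_zero, zero_smul])
        (fun h => (h (Finset.mem_univ l)).elim), Pi.single_eq_same, map_one, one_smul]
    rwa [es]
  obtain ⟨μ, hμ⟩ := Submodule.exists_forall_notMem_of_forall_ne_top W hW
  exact ⟨s μ, gx μ, fun j => not_not.mp (hμ j)⟩

end Groth.Agent.InvTriv15
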